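import Groth.Agent.L11.SBStable.Product
import Mathlib.AlgebraicGeometry.AffineSpace
import Mathlib.RingTheory.TensorProduct.MvPolynomial

/-!
# Rational schemes of finite type over a field
-/

set_option autoImplicit false
set_option linter.style.haveILetI false
set_option backward.isDefEq.respectTransparency false
set_option backward.isDefEq.respectTransparency.types false

universe u

open CategoryTheory CategoryTheory.Limits AlgebraicGeometry TopologicalSpace MvPolynomial
open scoped TensorProduct

noncomputable section

namespace Groth.L07.SpecialBirat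

variable {k : Type u} [Field k]

/-- the structure map of affine space as a spectrum -/
abbrev polyHom (k : Type u) [Field k] (n : Type u) :
    Spec (CommRingCat.of (MvPolynomial n k)) ⟶ Spec (CommRingCat.of k) :=
  Spec.map (CommRingCat.ofHom (algebraMap k (MvPolynomial n k)))

theorem birationalOver_spec_affineSpace (n : Type u) :
    Scheme.BirationalOver (𝔸(n; Spec (CommRingCat.of k)) ↘ Spec (CommRingCat.of k)) (polyHom k n) := by
  refine Groth.L11.SBStable.birationalOver_of_iso _ _ (AffineSpace.SpecIso n (CommRingCat.of k)) ?_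
  rw [← cancel_epi (AffineSpace.SpecIso n (CommRingCat.of k)).inv, Iso.inv_hom_id_assoc,
    AffineSpace.SpecIso_inv_over]
  rfl

theorem irreducibleSpace_of_birationalOver {X Y S : Scheme.{u}} {sX : X ⟶ S} {sY : Y ⟶ S}
    (h : Scheme.BirationalOver sX sY) [IrreducibleSpace Y] : IrreducibleSpace X := by
  obtain ⟨⟨U, hU, V, hV, e⟩, -⟩ := h
  have hVne : (V : Set Y).Nonempty := hV.nonempty
  haveI : IrreducibleSpace V := by
    haveI : PreirreducibleSpace V := V.isOpenEmbedding.preirreducibleSpace
    exact { toNonempty := hVne.to_subtype }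
  haveI : IrreducibleSpace U := by
    haveI : IrreducibleSpace (V : Scheme.{u}) := ‹IrreducibleSpace V›
    exact (Scheme.homeoOfIso e).irreducibleSpace_iff.2 ‹_›
  have h1 : _root_.IsIrreducible (U : Set X) := isIrreducible_iff_irreducibleSpace.2 ‹_›
  have h2 := h1.closure
  rw [hU.closure_eq] at h2
  exact (irreducibleSpace_def X).2 h2

theorem isDomain_tensor (m n : Type u) : IsDomain (MvPolynomial m k ⊗[k] MvPolynomial n k) :=
  (MvPolynomial.algebraTensorAlgEquiv k (MvPolynomial m k) (σ := n)).toRingEquiv.toMulEquiv.isDomain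

theorem irreducibleSpace_poly_prod (m n : Type u) :
    IrreducibleSpace (pullback (polyHom k m) (polyHom k n) : Scheme.{u}) := by
  haveI := isDomain_tensor (k := k) m n
  let e := pullbackSpecIso k (MvPolynomial m k) (MvPolynomial n k)
  haveI : IrreducibleSpace (Spec (CommRingCat.of (MvPolynomial m k ⊗[k] MvPolynomial n k))) :=
    inferInstanceAs (IrreducibleSpace (PrimeSpectrum (MvPolynomial m k ⊗[k] MvPolynomial n k)))
  exact (Scheme.homeoOfIso e).irreducibleSpace_iff.2 ‹_›

/-- a localisation of a polynomial ring at one non-zero element is finitely generated only in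
finitely many variables -/
theorem finite_of_finiteType_away {n : Type u} (f : MvPolynomial n k) (hf : f ≠ 0)
    [Algebra.FiniteType k (Localization.Away f)] : Finite n := by
  classical
  by_contra hn
  rw [not_finite_iff_infinite] at hn
  obtain ⟨s, hs⟩ := ‹Algebra.FiniteType k (Localization.Away f)›.out
  have hfrac : ∀ z : Localization.Away f, ∃ (a : MvPolynomial n k) (m : ℕ),
      z * algebraMap _ (Localization.Away f) (f ^ m) = algebraMap _ _ a := fun z => by
    obtain ⟨⟨a, ⟨_, m, rfl⟩⟩, h⟩ := IsLocalization.surj (Submonoid.powers f) z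
    exact ⟨a, m, h⟩
  choose num ex hnum using hfrac
  let T : Finset n := f.vars ∪ s.biUnion fun z => (num z).vars
  obtain ⟨j, hj⟩ := T.exists_notMem
  let L := Localization.Away f
  let σ : MvPolynomial n k →ₐ[k] L :=
    aeval fun i => algebraMap (MvPolynomial n k) L (X i + if i = j then 1 else 0)
  have hσ : ∀ a : MvPolynomial n k, j ∉ a.vars → σ a = algebraMap _ L a := fun a ha => by
    have e : IsScalarTower.toAlgHom k (MvPolynomial n k) L = aeval fun i => algebraMap (MvPolynomial n k) L (X i) := by
      ext i; simp
    refine Eq.trans ?_ (AlgHom.congr_fun e a).symm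
    exact eval₂Hom_congr' (f₁ := algebraMap k L) (f₂ := algebraMap k L) rfl (fun i hi _ => by
      have : i ≠ j := fun e => ha (e ▸ hi)
      simp [this]) rfl
  have hfu : IsUnit (σ f) := by
    rw [hσ f fun h => hj (Finset.mem_union_left _ h)]
    exact IsLocalization.Away.algebraMap_isUnit f
  let τ : L →+* L := IsLocalization.Away.lift f hfu
  have hτ : ∀ a : MvPolynomial n k, τ (algebraMap _ L a) = σ a := fun a =>
    IsLocalization.Away.lift_eq f hfu a
  have hgen : ∀ z ∈ s, τ z = z := fun z hz => by
    have h := congrArg τ (hnum z)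
    rw [map_mul, hτ, hτ, map_pow, hσ f fun h => hj (Finset.mem_union_left _ h), ← map_pow,
      hσ (num z) fun h => hj (Finset.mem_union_right _ (Finset.mem_biUnion.2 ⟨z, hz, h⟩)),
      ← hnum z] at h
    exact (IsLocalization.map_units L (⟨f ^ ex z, ex z, rfl⟩ : Submonoid.powers f)).mul_left_injective h
  have hid : ∀ z : L, τ z = z := fun z => by
    have hz : z ∈ Algebra.adjoin k (↑s : Set L) := hs ▸ Algebra.mem_top
    induction hz using Algebra.adjoin_induction with
    | mem x hx => exact hgen x hx
    | algebraMap r => rw [IsScalarTower.algebraMap_apply k (MvPolynomial n k) L, hτ]; exact σ.commutes r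
    | add x y _ _ hx hy => rw [map_add, hx, hy]
    | mul x y _ _ hx hy => rw [map_mul, hx, hy]
  have hinj : Function.Injective (algebraMap (MvPolynomial n k) L) :=
    IsLocalization.injective L (powers_le_nonZeroDivisors_of_noZeroDivisors hf)
  have h1 := hid (algebraMap (MvPolynomial n k) L (X j))
  rw [hτ] at h1
  have h2 : algebraMap (MvPolynomial n k) L (X j + 1) = algebraMap (MvPolynomial n k) L (X j) := by
    simpa [σ] using h1
  have := hinj h2
  simp at this

/-- a rational scheme of finite type is birational to a finite-dimensional affine space -/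
theorem exists_birational_poly {X : Scheme.{u}} (sX : X ⟶ Spec (CommRingCat.of k))
    [LocallyOfFiniteType sX] [Scheme.IsRationalOver sX] :
    ∃ n : Type u, Finite n ∧ Scheme.BirationalOver sX (polyHom k n) := by
  obtain ⟨n, hn⟩ := Scheme.IsRationalOver.exists_birationalOver_affineSpace sX
  have h := hn.trans (birationalOver_spec_affineSpace n)
  refine ⟨n, ?_, h⟩
  obtain ⟨⟨U, hU, V, hV, e⟩, he⟩ := h
  obtain ⟨y, hy⟩ := hV.nonempty
  obtain ⟨_, ⟨f, rfl⟩, hfy, hfV⟩ :=
    PrimeSpectrum.isTopologicalBasis_basic_opens.exists_subset_of_mem_open hy V.2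
  have hf : f ≠ 0 := fun h => by
    rw [h] at hfy
    exact hfy (zero_mem _)
  haveI : LocallyOfFiniteType (V.ι ≫ polyHom k n) := by
    have e' : V.ι ≫ polyHom k n = e.inv ≫ U.ι ≫ sX := by
      rw [← cancel_epi e.hom, Iso.hom_inv_id_assoc]; exact he
    rw [e']
    infer_instance
  let P := MvPolynomial n k
  let j : Spec (CommRingCat.of (Localization.Away f)) ⟶ Spec (CommRingCat.of P) :=
    Spec.map (CommRingCat.ofHom (algebraMap P (Localization.Away f)))
  haveI : IsOpenImmersion j := IsOpenImmersion.of_isLocalization f
  have hr : Set.range j ⊆ Set.range V.ι := by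
    rw [Scheme.Opens.range_ι]
    refine subset_trans ?_ hfV
    exact (PrimeSpectrum.localization_away_comap_range (Localization.Away f) f).le
  haveI : LocallyOfFiniteType (j ≫ polyHom k n) := by
    rw [← IsOpenImmersion.lift_fac V.ι j hr, Category.assoc]
    infer_instance
  have e2 : j ≫ polyHom k n = Spec.map (CommRingCat.ofHom (algebraMap k (Localization.Away f))) := by
    rw [← Spec.map_comp, ← CommRingCat.ofHom_comp, ← IsScalarTower.algebraMap_eq]
  have h3 : LocallyOfFiniteType (Spec.map (CommRingCat.ofHom (algebraMap k (Localization.Away f)))) :=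
    e2 ▸ ‹LocallyOfFiniteType (j ≫ polyHom k n)›
  have hft : (algebraMap k (Localization.Away f)).FiniteType :=
    (HasRingHomProperty.Spec_iff (P := @LocallyOfFiniteType)).1 h3
  haveI : Algebra.FiniteType k (Localization.Away f) := RingHom.finiteType_algebraMap.1 hft
  exact finite_of_finiteType_away f hf

/-- reindex finitely many variables by `Fin r` -/
theorem birationalOver_poly_fin (n : Type u) [Finite n] :
    ∃ r : ℕ, Scheme.BirationalOver (polyHom k n)
      (Spec.map (CommRingCat.ofHom (algebraMap k (MvPolynomial (Fin r) k)))) := by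
  obtain ⟨r, ⟨σ⟩⟩ := Finite.exists_equiv_fin n
  refine ⟨r, Groth.L11.SBStable.birationalOver_of_iso _ _
    (Scheme.Spec.mapIso (renameEquiv k σ.symm).toRingEquiv.toCommRingCatIso.op) ?_⟩
  show Spec.map _ ≫ Spec.map _ = Spec.map _
  rw [← Spec.map_comp]
  congr 1
  exact CommRingCat.hom_ext (RingHom.ext fun a => (renameEquiv k σ.symm).commutes a)

end Groth.L07.SpecialBirat
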