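import Groth.Agent.L08.Borel.Factor
import Groth.Agent.L07.SpecialBirat.Birat
import Groth.Agent.L24.LocQ.Descent

/-!
# The quotient `(G₁ × G₂)/G` as a torsor over `G₁/G`
-/

set_option autoImplicit false
set_option linter.style.haveILetI false
set_option backward.isDefEq.respectTransparency.types false
set_option maxHeartbeats 1000000

universe u

open CategoryTheory CategoryTheory.Limits MonoidalCategory CartesianMonoidalCategory AlgebraicGeometry

noncomputable section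

namespace Groth.L07.SpecialBirat

open Groth.L08.Borel
open scoped MonObj

variable {k : Type u} [Field k]

/-- all torsors for `G` between schemes of finite type are Zariski locally trivial -/
def IsSpecial (G : Over (Spec (CommRingCat.of k))) [GrpObj G] : Prop :=
  ∀ (X' Y' : Over (Spec (CommRingCat.of k))) (a : AlgGrp.Action G X') (p : X' ⟶ Y'),
    LocallyOfFiniteType X'.hom → QuasiCompact X'.hom → LocallyOfFiniteType Y'.hom → QuasiCompact Y'.hom →
    Flat p.left → Surjective p.left → IsPullback a.act.left (snd G X').left p.left p.left →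
    ∀ y : ↥Y'.left, ∃ (W : Y'.left.Opens) (s : (W : Scheme.{u}) ⟶ X'.left), y ∈ W ∧ s ≫ p.left = W.ι

/-- pull back of a map along a quotient map gives an epimorphism -/
theorem exists_lift_cover {P X T : Over (Spec (CommRingCat.of k))} (π : P ⟶ X) [Flat π.left] [Surjective π.left]
    [LocallyOfFinitePresentation π.left] (x : T ⟶ X) :
    ∃ (T' : Over (Spec (CommRingCat.of k))) (q : T' ⟶ T) (w : T' ⟶ P),
      w ≫ π = q ≫ x ∧ Flat q.left ∧ Surjective q.left ∧ LocallyOfFinitePresentation q.left := by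
  refine ⟨Over.mk (pullback.fst x.left π.left ≫ T.hom), Over.homMk (pullback.fst x.left π.left),
    Over.homMk (pullback.snd x.left π.left) (by
      show pullback.snd x.left π.left ≫ P.hom = pullback.fst x.left π.left ≫ T.hom
      rw [← Over.w π, ← pullback.condition_assoc, Over.w x]),
    Over.OverMorphism.ext pullback.condition.symm, ?_, ?_, ?_⟩
  · exact inferInstanceAs (Flat (pullback.fst x.left π.left))
  · exact inferInstanceAs (Surjective (pullback.fst x.left π.left))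
  · exact inferInstanceAs (LocallyOfFinitePresentation (pullback.fst x.left π.left))

/-- restriction of an action along a homomorphism -/
def restrictAct {P G₂ X : Over (Spec (CommRingCat.of k))} [GrpObj P] [GrpObj G₂] (a : AlgGrp.Action P X)
    (s : G₂ ⟶ P) [IsMonHom s] : AlgGrp.Action G₂ X where
  act := (s ▷ X) ≫ a.act
  one_act := by rw [← comp_whiskerRight_assoc, IsMonHom.one_hom, a.one_act]
  mul_act := by
    have h1 : (μ[G₂] ▷ X) = lift ((fst (G₂ ⊗ G₂) X ≫ fst G₂ G₂) * (fst (G₂ ⊗ G₂) X ≫ snd G₂ G₂)) (snd _ _) := by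
      apply CartesianMonoidalCategory.hom_ext <;> simp [Hom.mul_def]
    have h2 : (α_ G₂ G₂ X).hom = lift (fst (G₂ ⊗ G₂) X ≫ fst G₂ G₂)
        (lift (fst (G₂ ⊗ G₂) X ≫ snd G₂ G₂) (snd _ _)) := by
      apply CartesianMonoidalCategory.hom_ext
      · simp
      · apply CartesianMonoidalCategory.hom_ext <;> simp
    rw [h1, lift_whiskerRight_assoc, MonObj.mul_comp, Groth.L25.Actions.mul_act, h2]
    simp only [lift_whiskerRight_assoc, lift_whiskerLeft_assoc]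

theorem lift_restrictAct {P G₂ X : Over (Spec (CommRingCat.of k))} [GrpObj P] [GrpObj G₂] (a : AlgGrp.Action P X)
    (s : G₂ ⟶ P) [IsMonHom s] {T : Over (Spec (CommRingCat.of k))} (g : T ⟶ G₂) (x : T ⟶ X) :
    lift g x ≫ (restrictAct a s).act = lift (g ≫ s) x ≫ a.act := by
  show lift g x ≫ (s ▷ X) ≫ a.act = _
  rw [lift_whiskerRight_assoc]

variable {G G₁ G₂ P X : Over (Spec (CommRingCat.of k))} [GrpObj G] [GrpObj G₁] [GrpObj G₂] [GrpObj P]
  {a : AlgGrp.Action P X} {o : 𝟙_ (Over (Spec (CommRingCat.of k))) ⟶ X}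

theorem eq_one_of_fixed [LocallyOfFiniteType P.hom] {j : G ⟶ P} (hX : AGF.IsQuotient j X a o)
    {i₁ : G ⟶ G₁} [IsMonHom i₁] [IsClosedImmersion i₁.left] {pr₁ : P ⟶ G₁} {pr₂ : P ⟶ G₂} [IsMonHom pr₁] [IsMonHom pr₂]
    {s₂ : G₂ ⟶ P} [IsMonHom s₂] (hs₁ : s₂ ≫ pr₁ = 1) (hs₂ : s₂ ≫ pr₂ = 𝟙 G₂) [IsMonHom j] (hj₁ : j ≫ pr₁ = i₁)
    {T : Over (Spec (CommRingCat.of k))} (g : T ⟶ G₂) (x : T ⟶ X)
    (h : lift g x ≫ (restrictAct a s₂).act = x) : g = 1 := by
  haveI := hX.1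
  haveI := hX.2.1
  haveI := hX.2.2.1
  haveI := lfp_orbitMap hX
  haveI : Mono i₁ := Over.mono_of_mono_left _
  obtain ⟨T', q, w, hw, hqf, hqs, hqp⟩ := exists_lift_cover (a.orbitMap o) x
  haveI : Epi q.left := inferInstance
  haveI : Epi q := Over.epi_of_epi_left _
  rw [← cancel_epi q, MonObj.comp_one]
  have h' : ((q ≫ g) ≫ s₂ * w) ≫ a.orbitMap o = w ≫ a.orbitMap o := by
    rw [mul_orbitMap, hw, ← lift_restrictAct, ← comp_lift_assoc, h]
  obtain ⟨z, hz⟩ := (orbitMap_eq_iff hX _ _).1 h'.symm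
  have e1 : ((q ≫ g) ≫ s₂) ≫ pr₁ = 1 := by rw [Category.assoc, hs₁, MonObj.comp_one]
  have e2 : ((q ≫ g) ≫ s₂) ≫ pr₂ = q ≫ g := by rw [Category.assoc, hs₂, Category.comp_id]
  have h1 := congrArg (· ≫ pr₁) hz
  rw [Category.assoc, hj₁, MonObj.mul_comp, MonObj.mul_comp, GrpObj.inv_comp, e1, _root_.one_mul,
    inv_mul_cancel] at h1
  have hz1 : z = 1 := by
    rw [← cancel_mono i₁, h1, MonObj.one_comp]
  rw [hz1, MonObj.one_comp, eq_comm, inv_mul_eq_one, right_eq_mul] at hz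
  rw [← e2, hz, MonObj.one_comp]

theorem exists_translate_points [LocallyOfFiniteType P.hom] [LocallyOfFiniteType G₁.hom] {j : G ⟶ P} [IsMonHom j] (hX : AGF.IsQuotient j X a o)
    {i₁ : G ⟶ G₁} [IsMonHom i₁] [IsClosedImmersion i₁.left] {pr₁ : P ⟶ G₁} {pr₂ : P ⟶ G₂} [IsMonHom pr₁] [IsMonHom pr₂]
    (hext : ∀ (T : Over (Spec (CommRingCat.of k))) (x y : T ⟶ P), x ≫ pr₁ = y ≫ pr₁ → x ≫ pr₂ = y ≫ pr₂ → x = y)
    {s₂ : G₂ ⟶ P} [IsMonHom s₂] (hs₁ : s₂ ≫ pr₁ = 1) (hs₂ : s₂ ≫ pr₂ = 𝟙 G₂) (hj₁ : j ≫ pr₁ = i₁)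
    {Q : Over (Spec (CommRingCat.of k))} {aQ : AlgGrp.Action G₁ Q} {oQ : 𝟙_ (Over (Spec (CommRingCat.of k))) ⟶ Q}
    (hQ : AGF.IsQuotient i₁ Q aQ oQ) {p : X ⟶ Q} (hp : a.orbitMap o ≫ p = pr₁ ≫ aQ.orbitMap oQ)
    {T : Over (Spec (CommRingCat.of k))} (x y : T ⟶ X) (e : x ≫ p = y ≫ p) :
    ∃ g : T ⟶ G₂, lift g y ≫ (restrictAct a s₂).act = x := by
  haveI := hX.1
  haveI := hX.2.1
  haveI := hX.2.2.1
  haveI := lfp_orbitMap hX
  obtain ⟨T₁, q₁, w₁, hw₁, hf₁, hs₁', hp₁⟩ := exists_lift_cover (a.orbitMap o) x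
  obtain ⟨T₂, q₂, w₂, hw₂, hf₂, hs₂', hp₂⟩ := exists_lift_cover (a.orbitMap o) (q₁ ≫ y)
  let q := q₂ ≫ q₁
  haveI : Flat q.left := inferInstanceAs (Flat (q₂.left ≫ q₁.left))
  haveI : Surjective q.left := inferInstanceAs (Surjective (q₂.left ≫ q₁.left))
  haveI : LocallyOfFinitePresentation q.left :=
    inferInstanceAs (LocallyOfFinitePresentation (q₂.left ≫ q₁.left))
  haveI : EffectiveEpi q.left := inferInstance
  haveI : Epi q := Over.epi_of_epi_left _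
  have hu : (q₂ ≫ w₁) ≫ a.orbitMap o = q ≫ x := by rw [Category.assoc, hw₁, Category.assoc]
  have hv : w₂ ≫ a.orbitMap o = q ≫ y := by rw [hw₂, Category.assoc]
  have ep : ∀ {T' : Over (Spec (CommRingCat.of k))} (v : T' ⟶ P),
      (v ≫ pr₁) ≫ aQ.orbitMap oQ = (v ≫ a.orbitMap o) ≫ p :=
    fun v => by rw [Category.assoc, Category.assoc, hp]
  obtain ⟨z, hz⟩ := (orbitMap_eq_iff hQ (w₂ ≫ pr₁) ((q₂ ≫ w₁) ≫ pr₁)).1 (by
    rw [ep, ep, hu, hv, Category.assoc q x p, e, Category.assoc q y p])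
  let v' := w₂ * (z ≫ j)
  have hv' : v' ≫ a.orbitMap o = q ≫ y := by
    rw [← hv]
    exact ((orbitMap_eq_iff hX _ _).2 ⟨z, by rw [inv_mul_cancel_left]⟩).symm
  let g := (q₂ ≫ w₁) ≫ pr₂ * (v' ≫ pr₂)⁻¹
  have e1 : (g ≫ s₂) ≫ pr₁ = 1 := by rw [Category.assoc, hs₁, MonObj.comp_one]
  have e2 : (g ≫ s₂) ≫ pr₂ = g := by rw [Category.assoc, hs₂, Category.comp_id]
  have hvv : (g ≫ s₂) * v' = q₂ ≫ w₁ := by
    apply hext
    · rw [MonObj.mul_comp, e1, _root_.one_mul, MonObj.mul_comp, Category.assoc _ j, hj₁, hz,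
        mul_inv_cancel_left]
    · rw [MonObj.mul_comp, e2]
      exact inv_mul_cancel_right _ _
  have hg : lift g (q ≫ y) ≫ (restrictAct a s₂).act = q ≫ x := by
    rw [lift_restrictAct, ← hv', ← mul_orbitMap, hvv, hu]
  obtain ⟨g₀, hg₀, -⟩ := Groth.L25.Actions.existsUnique_desc q g (fun Z c₁ c₂ hc => by
    have h1 : lift (c₁ ≫ g) (c₁ ≫ q ≫ y) ≫ (restrictAct a s₂).act = c₁ ≫ q ≫ x := by
      rw [← comp_lift_assoc, hg]
    have h2 : lift (c₂ ≫ g) (c₂ ≫ q ≫ y) ≫ (restrictAct a s₂).act = c₂ ≫ q ≫ x := by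
      rw [← comp_lift_assoc, hg]
    rw [← reassoc_of% hc, ← reassoc_of% hc] at h2
    have h3 := congrArg (fun t => lift (c₂ ≫ g)⁻¹ t ≫ (restrictAct a s₂).act) (h1.trans h2.symm)
    simp only [← Groth.L25.Actions.mul_act, inv_mul_cancel, Groth.L25.Actions.one_act] at h3
    exact (inv_mul_eq_one.1 (eq_one_of_fixed hX hs₁ hs₂ hj₁ _ _ h3)).symm)
  refine ⟨g₀, ?_⟩
  rw [← cancel_epi q, comp_lift_assoc, hg₀, hg]

theorem act_comp_desc [LocallyOfFiniteType P.hom] [LocallyOfFiniteType G₂.hom] {j : G ⟶ P} (hX : AGF.IsQuotient j X a o)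
    {pr₁ : P ⟶ G₁} [IsMonHom pr₁] {s₂ : G₂ ⟶ P} [IsMonHom s₂] (hs₁ : s₂ ≫ pr₁ = 1)
    {Q : Over (Spec (CommRingCat.of k))} {aQ : AlgGrp.Action G₁ Q} {oQ : 𝟙_ (Over (Spec (CommRingCat.of k))) ⟶ Q}
    {p : X ⟶ Q} (hp : a.orbitMap o ≫ p = pr₁ ≫ aQ.orbitMap oQ) :
    (restrictAct a s₂).act ≫ p = snd G₂ X ≫ p := by
  haveI := hX.1
  haveI := hX.2.1
  haveI := hX.2.2.1
  haveI := lfp_orbitMap hX
  let π := a.orbitMap o
  haveI : Flat (G₂ ◁ π).left := Groth.L25.Actions.of_whiskerLeft @Flat G₂ π ‹_›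
  haveI : Surjective (G₂ ◁ π).left := Groth.L25.Actions.of_whiskerLeft @Surjective G₂ π ‹_›
  haveI : LocallyOfFinitePresentation (G₂ ◁ π).left :=
    Groth.L25.Actions.of_whiskerLeft @LocallyOfFinitePresentation G₂ π ‹_›
  haveI : Epi (G₂ ◁ π).left := inferInstance
  haveI : Epi (G₂ ◁ π) := Over.epi_of_epi_left _
  rw [← cancel_epi (G₂ ◁ π), ← Category.assoc, ← Category.assoc]
  have e0 : G₂ ◁ π = lift (fst G₂ P) (snd G₂ P ≫ π) := by
    apply CartesianMonoidalCategory.hom_ext <;> simp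
  have e1 : (G₂ ◁ π) ≫ (restrictAct a s₂).act = ((fst G₂ P ≫ s₂) * snd G₂ P) ≫ π := by
    rw [e0, lift_restrictAct, mul_orbitMap]
  rw [e1, whiskerLeft_snd, Category.assoc, Category.assoc, hp, ← Category.assoc, MonObj.mul_comp,
    Category.assoc (fst G₂ P), hs₁, MonObj.comp_one, _root_.one_mul, Category.assoc]

theorem birationalOver_prod_of_special [IsAffine G₁.left] [IsAffine P.left] [LocallyOfFiniteType G₁.hom]
    [LocallyOfFiniteType G₂.hom] [LocallyOfFiniteType P.hom]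
    (i₁ : G ⟶ G₁) [IsMonHom i₁] [IsClosedImmersion i₁.left]
    (pr₁ : P ⟶ G₁) (pr₂ : P ⟶ G₂) [IsMonHom pr₁] [IsMonHom pr₂]
    (hext : ∀ (T : Over (Spec (CommRingCat.of k))) (x y : T ⟶ P), x ≫ pr₁ = y ≫ pr₁ → x ≫ pr₂ = y ≫ pr₂ → x = y)
    (s₂ : G₂ ⟶ P) [IsMonHom s₂] (hs₁ : s₂ ≫ pr₁ = 1) (hs₂ : s₂ ≫ pr₂ = 𝟙 G₂)
    [Flat pr₁.left] [Surjective pr₁.left]
    (j : G ⟶ P) [IsMonHom j] [IsClosedImmersion j.left] (hj₁ : j ≫ pr₁ = i₁)
    (hsp : IsSpecial G₂) [IrreducibleSpace P.left]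
    (hX : AGF.IsQuotient j X a o)
    {Q : Over (Spec (CommRingCat.of k))} {aQ : AlgGrp.Action G₁ Q}
    {oQ : 𝟙_ (Over (Spec (CommRingCat.of k))) ⟶ Q} (hQ : AGF.IsQuotient i₁ Q aQ oQ) :
    Scheme.BirationalOver X.hom (pullback.fst G₂.hom Q.hom ≫ G₂.hom) := by
  haveI := hX.1
  haveI := hQ.1
  haveI := hX.2.1
  haveI := hX.2.2.1
  haveI := hQ.2.1
  haveI := hQ.2.2.1
  haveI := (isSeparated_quotient hX).2
  haveI := (isSeparated_quotient hQ).2
  let π := a.orbitMap o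
  let πQ := aQ.orbitMap oQ
  obtain ⟨p, hp⟩ := exists_desc hX (pr₁ ≫ πQ) (fun T x y ⟨z, hz⟩ => by
    rw [← Category.assoc, ← Category.assoc]
    refine (orbitMap_eq_iff hQ _ _).2 ⟨z, ?_⟩
    rw [← hj₁, ← Category.assoc, hz, MonObj.mul_comp, GrpObj.inv_comp])
  let b := restrictAct a s₂
  have sq : IsPullback b.act (snd G₂ X) p p := by
    refine IsPullback.mk' (act_comp_desc hX hs₁ hp) (fun T φ ψ h₁ h₂ => ?_) (fun T x y e => ?_)
    · apply CartesianMonoidalCategory.hom_ext _ _ ?_ h₂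
      rw [← lift_comp_fst_snd φ, ← lift_comp_fst_snd ψ, h₂] at h₁
      have h3 := congrArg (fun t => lift (ψ ≫ fst G₂ X)⁻¹ t ≫ b.act) h₁
      simp only [← Groth.L25.Actions.mul_act, inv_mul_cancel, Groth.L25.Actions.one_act] at h3
      exact (inv_mul_eq_one.1 (eq_one_of_fixed hX hs₁ hs₂ hj₁ _ _ h3)).symm
    · obtain ⟨g, hg⟩ := exists_translate_points hX hext hs₁ hs₂ hj₁ hQ hp x y e
      exact ⟨lift g y, hg, lift_snd _ _⟩
  -- properties of `p`
  have hpl : π.left ≫ p.left = pr₁.left ≫ πQ.left := by rw [← Over.comp_left, hp, Over.comp_left]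
  haveI : Flat p.left := by
    haveI : Flat (π.left ≫ p.left) := hpl ▸ inferInstanceAs (Flat (pr₁.left ≫ πQ.left))
    exact Groth.L24.LocQ.flat_of_comp_surjective π.left p.left ‹_›
  haveI : Surjective p.left := by
    haveI : Surjective (π.left ≫ p.left) := hpl ▸ inferInstanceAs (Surjective (pr₁.left ≫ πQ.left))
    exact Surjective.of_comp π.left p.left
  haveI : IrreducibleSpace X.left := by
    have h := IrreducibleSpace.isIrreducible_univ P.left |>.image π.left π.left.continuous.continuousOn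
    rw [Set.image_univ, π.left.surjective.range_eq] at h
    exact (irreducibleSpace_def _).2 h
  haveI : IrreducibleSpace Q.left := by
    have h := IrreducibleSpace.isIrreducible_univ X.left |>.image p.left p.left.continuous.continuousOn
    rw [Set.image_univ, p.left.surjective.range_eq] at h
    exact (irreducibleSpace_def _).2 h
  obtain ⟨W, s, hyW, hs⟩ := hsp X Q b p ‹_› ‹_› ‹_› ‹_› ‹_› ‹_› (sq.map (Over.forget _))
    (Classical.arbitrary Q.left)
  let Wo : Over (Spec (CommRingCat.of k)) := Over.mk (W.ι ≫ Q.hom)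
  let so : Wo ⟶ X := Over.homMk s (by show s ≫ X.hom = W.ι ≫ Q.hom; rw [← hs, Category.assoc, Over.w])
  have h1 := (Groth.L25.Actions.isPullback_whiskerLeft_left G₂ so).paste_horiz (sq.map (Over.forget _))
  have hso : so.left ≫ ((Over.forget (Spec (CommRingCat.of k))).map p) = W.ι := hs
  rw [hso] at h1
  let φ := (G₂ ◁ so).left ≫ b.act.left
  haveI : IsOpenImmersion φ :=
    MorphismProperty.of_isPullback (P := @IsOpenImmersion) h1.flip (inferInstanceAs (IsOpenImmersion W.ι))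
  obtain ⟨x, hx⟩ := p.left.surjective (Classical.arbitrary Q.left)
  haveI : Nonempty (G₂ ⊗ Wo).left := by
    obtain ⟨z, -⟩ := Scheme.exists_preimage_of_isPullback h1 x ⟨_, hyW⟩ hx
    exact ⟨z⟩
  haveI : IsDominant φ :=
    ⟨φ.isOpenEmbedding.isOpen_range.dense (Set.range_nonempty _)⟩
  have hφ : φ ≫ X.hom = (G₂ ⊗ Wo).hom := by
    show (G₂ ◁ so).left ≫ b.act.left ≫ X.hom = _
    rw [Over.w, Over.w]
  have h2 := (φ.birationalOver X.hom (G₂ ⊗ Wo).hom hφ).symm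
  have h3 := Groth.L11.SBStable.birationalOver_prod_opens G₂.hom Q.hom W (W.2.dense ⟨_, hyW⟩)
  exact h2.trans h3

end Groth.L07.SpecialBirat
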